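import Mathlib
import Cfsg.Agent.Lib.CosetTable.Check

/-! Generated certificate data for the coset table `SuzLevelC`. -/

namespace Cfsg.Agent.Lib.CosetTable.SuzLevelC

open Cfsg.Agent.Lib.CosetTable

set_option maxRecDepth 10000

def facts : T := .leaf 0x3c0000010000380001e00000340001c10000300001a000002c00018100002800016000002400014100002000012000001c0001010000180000e00000140000c10000100000a000000c000081000008000060000004000041000000000020

def defs : T := .leaf 0x1c00000000001a10000000001800000000001610000000001400000000001210000000001000000000000e10000000000c00000000000a1000000000080000000000061000000000040000000000021000000000000000000000000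

def nodeT : ℕ := 0x800000900000700000a00000600000b00000500000c00000400000d00000300000e00000200000f000001000000

def parT : ℕ := 0x1a10001810001600001400001210001010000e00000c00000a1000081000060000040000021000001000000000000

def perm0 : ℕ := 0xe000f000b000a000d000c0007000600090008000300020005000400000001

def eid0 : ℕ := 0x800000800000600000a00000600000a00000400000c00000400000c00000200000e00000200000e000000000000

def perm1 : ℕ := 0xd000c000f000e00090008000b000a00050004000700060001000000030002

def eid1 : ℕ := 0x700000900000700000900000500000b00000500000b00000300000d00000300000d00000100000f00000100000f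

def rulesT : RT := .leaf 1 [0, 1, 0, 1, 0, 1, 0, 1, 0, 1, 0, 1, 0, 1, 0] 1 0

def relsL : List (List ℕ) := [[0, 0],
  [0, 1, 0, 1, 0, 1, 0, 1, 0, 1, 0, 1, 0, 1, 0, 1],
  [1, 1]]

def subsL : List (List ℕ) := []

def cert : Cert where
  k := 2
  rels := relsL
  subs := subsL
  rules := rulesT
  facts := facts
  defs := defs

def tab : Table where
  n := 16
  k := 2
  node := nodeT
  perms := [perm0, perm1]
  eids := [eid0, eid1]
  par := parT

end Cfsg.Agent.Lib.CosetTable.SuzLevelC
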