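import Cfsg.Agent.Lib.CosetTable.Sound
import Cfsg.Agent.Lib.CosetTable.SuzLevelC.Data

/-! Generated certificate data for the coset table `SuzLevelC`. -/

namespace Cfsg.Agent.Lib.CosetTable.SuzLevelC

open Cfsg.Agent.Lib.CosetTable

def streams0 : List (ℕ × ℕ) := [(16, 0x100000300000500000700000900000b00000d00000f00001100001300001500001700001900001b00001d00000f000002000000000000000000000000000000000000000000000000000000000000000000000000000000000000000000000000000000000000000000000000000000000000000000000000000000000000000000000000000000000000)]

theorem run0 : cert.goStreams streams0 0 = true := by decide +kernel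

theorem part1 (h : cert.Upto 0) : cert.Upto 16 :=
  (h).step (b := 16) run0 rfl

end Cfsg.Agent.Lib.CosetTable.SuzLevelC
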